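import Groth.Agent.FFun.Basic
import Groth.Agent.S0002
import Groth.Agent.QCoh.Bound
import Mathlib.RingTheory.Nakayama

/-!
# Cohomology modulo a maximal ideal of the base, by right exactness in the top degree
-/

set_option autoImplicit false
set_option linter.style.haveILetI false
set_option linter.unusedSectionVars false
set_option backward.isDefEq.respectTransparency false
set_option backward.isDefEq.respectTransparency.types false

universe u

open CategoryTheory CategoryTheory.Limits AlgebraicGeometry TopologicalSpace Opposite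
open CategoryTheory.Abelian
open Groth.Agent.PnCoh.Finite (mapLin deltaLin exists_of_deltaLin_eq_zero)

noncomputable section

namespace Groth.Agent.FibDimOne

open Groth.Agent Groth.Agent.FFun

variable {A : Type u} [CommRing A] {X : Scheme.{u}} [X.Over (Spec (CommRingCat.of A))]

variable (A) in
theorem surjective_of_succ {S : ShortComplex X.Modules} (hS : S.ShortExact) (n : ℕ)
    (h : Subsingleton (Coh.HH X S.X₁ (n + 1))) : Function.Surjective (mapLin A S.g n) := fun x =>
  exists_of_deltaLin_eq_zero A hS n (Subsingleton.elim _ _)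

variable (A) in
theorem exists_of_g_eq_zero {S : ShortComplex X.Modules} (hS : S.ShortExact) (n : ℕ)
    {x : Coh.HH X S.X₂ n} (h : mapLin A S.g n x = 0) : ∃ y, mapLin A S.f n y = x := by
  have hT := QCoh.toAb_shortExact hS
  exact Ext.covariant_sequence_exact₂ _ hT x h

variable {M N : X.Modules} (φ : M ⟶ N)

/-- The kernel sequence. -/
abbrev kerSeq : ShortComplex X.Modules :=
  ShortComplex.mk (kernel.ι φ) (Abelian.coimage.π φ) (cokernel.condition _)

theorem kerSeq_shortExact : (kerSeq φ).ShortExact :=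
  { exact := ShortComplex.exact_of_g_is_cokernel _ (cokernelIsCokernel _) }

/-- The cokernel sequence. -/
abbrev cokSeq : ShortComplex X.Modules :=
  ShortComplex.mk (Abelian.factorThruCoimage φ) (cokernel.π φ)
    (by rw [← cancel_epi (Abelian.coimage.π φ), ← Category.assoc, Abelian.coimage.fac, comp_zero,
      cokernel.condition])

theorem cokSeq_shortExact : (cokSeq φ).ShortExact := by
  refine .mk' (ShortComplex.exact_of_g_is_cokernel _ (CokernelCofork.IsColimit.ofπ _ _
    (fun {T} ψ hψ => cokernel.desc φ ψ ?_) (fun ψ hψ => cokernel.π_desc _ _ _)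
    fun ψ hψ m hm => ?_)) inferInstance inferInstance
  · rw [← Abelian.coimage.fac φ, Category.assoc]
    exact (congrArg (Abelian.coimage.π φ ≫ ·) hψ).trans comp_zero
  · exact (cancel_epi (cokernel.π φ)).1 (hm.trans (cokernel.π_desc _ _ _).symm)

variable {φ} [IsLocallyNoetherian X]

theorem isCoh_coimage (hM : Coh.IsCoh M) (hN : Coh.IsCoh N) : Coh.IsCoh (Abelian.coimage φ) :=
  QCoh.isCoh_cokernel (QCoh.isCoh_kernel hM hN φ).1 hM _

/-- In degree `n`, with `H^{n+1}` vanishing, the kernel of `H^n` of the projection comes from `M`. -/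
theorem exists_of_π_eq_zero (hM : Coh.IsCoh M) (hN : Coh.IsCoh N) {n : ℕ}
    (hv : ∀ G : X.Modules, Coh.IsCoh G → Subsingleton (Coh.HH X G (n + 1)))
    {x : Coh.HH X N n} (h : mapLin A (cokernel.π φ) n x = 0) : ∃ w, mapLin A φ n w = x := by
  obtain ⟨y, hy⟩ := exists_of_g_eq_zero A (cokSeq_shortExact φ) n h
  obtain ⟨w, hw⟩ := surjective_of_succ A (kerSeq_shortExact φ) n (hv _ (QCoh.isCoh_kernel hM hN φ)) y
  refine ⟨w, ?_⟩
  rw [← hy, ← hw]
  exact ((mapLin_comp _ _ n w).trans (mapLin_congr (Abelian.coimage.fac φ) n w)).symm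

theorem surjective_π (hv : Subsingleton (Coh.HH X (Abelian.coimage φ) 1)) :
    Function.Surjective (mapLin A (cokernel.π φ) 0) :=
  surjective_of_succ A (cokSeq_shortExact φ) 0 hv

variable {F : X.Modules} (a : A)

theorem le_killIdeal_coker [DecidableEq A] {m : Ideal A} {s : Finset A} {b : A}
    (h : m ≤ Ideal.span (↑(insert b s) : Set A) ⊔ killIdeal F) :
    m ≤ Ideal.span (↑s : Set A) ⊔ killIdeal (cokernel (Formal.smulMod A F b)) := by
  refine h.trans (sup_le ?_ ((killIdeal_le_of_epi (cokernel.π _)).trans le_sup_right))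
  rw [Finset.coe_insert, Ideal.span_le]
  rintro x (rfl | hx)
  · refine Ideal.mem_sup_right (mem_killIdeal.2 ?_)
    rw [← cancel_epi (cokernel.π (Formal.smulMod A F x)), ← smulMod_naturality, cokernel.condition,
      comp_zero]
  · exact Ideal.mem_sup_left (Ideal.subset_span hx)

/-- A property of coherent modules inherited by quotients. -/
structure QuotClosed (P : X.Modules → Prop) : Prop where
  coh : ∀ F, P F → Coh.IsCoh F
  quot : ∀ {F G : X.Modules} (φ : F ⟶ G) [Epi φ], Coh.IsCoh G → P F → P G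

/-- Cohomology in a degree where it is right exact is killed modulo the ideal when it vanishes on
modules killed by the ideal. -/
theorem mem_smul_top {P : X.Modules → Prop} (hP : QuotClosed P) {n : ℕ}
    (hv : ∀ G : X.Modules, Coh.IsCoh G → Subsingleton (Coh.HH X G (n + 1))) (m : Ideal A)
    (hb : ∀ F, P F → m ≤ killIdeal F → Subsingleton (Coh.HH X F n)) :
    ∀ s : Finset A, (↑s : Set A) ⊆ m → ∀ F, P F → m ≤ Ideal.span (↑s : Set A) ⊔ killIdeal F →
      ∀ x : Coh.HH X F n, x ∈ m • (⊤ : Submodule A (Coh.HH X F n)) := by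
  classical
  intro s
  induction s using Finset.induction_on with
  | empty =>
    intro _ F hF h x
    rw [Finset.coe_empty, Ideal.span_empty, bot_sup_eq] at h
    haveI := hb F hF h
    rw [Subsingleton.elim x 0]
    exact zero_mem _
  | @insert b s _ ih =>
    intro hs F hF h x
    rw [Finset.coe_insert, Set.insert_subset_iff] at hs
    have hc := hP.coh F hF
    have hC : Coh.IsCoh (cokernel (Formal.smulMod A F b)) := QCoh.isCoh_cokernel hc.1 hc _
    have hsurj : Function.Surjective (mapLin A (cokernel.π (Formal.smulMod A F b)) n) :=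
      surjective_of_succ A (cokSeq_shortExact (Formal.smulMod A F b)) n (hv _ (isCoh_coimage hc hc))
    have hx := ih hs.2 _ (hP.quot (cokernel.π (Formal.smulMod A F b)) hC hF) (le_killIdeal_coker h)
      (mapLin A (cokernel.π (Formal.smulMod A F b)) n x)
    rw [← LinearMap.range_eq_top.2 hsurj, ← Submodule.map_top, ← Submodule.map_smul''] at hx
    obtain ⟨x₀, hx₀, he⟩ := hx
    obtain ⟨w, hw⟩ := exists_of_π_eq_zero (A := A) hc hc hv (φ := Formal.smulMod A F b) (x := x - x₀)
      (by rw [map_sub, he, sub_self])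
    rw [mapLin_smulMod] at hw
    rw [show x = x₀ + b • w by rw [hw]; abel]
    exact add_mem hx₀ (Submodule.smul_mem_smul hs.1 Submodule.mem_top)

/-- A finite module equal to each maximal ideal times itself is zero. -/
theorem subsingleton_of_smul_top {M : Type*} [AddCommGroup M] [Module A M] [Module.Finite A M]
    (h : ∀ m : Ideal A, m.IsMaximal → ∀ x : M, x ∈ m • (⊤ : Submodule A M)) : Subsingleton M := by
  by_contra hM
  have hne : Module.annihilator A M ≠ ⊤ := fun h1 => hM (subsingleton_of_forall_eq 0 fun x => by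
    have := Module.mem_annihilator.1 (h1 ▸ Submodule.mem_top : (1 : A) ∈ Module.annihilator A M) x
    rwa [one_smul] at this)
  obtain ⟨m, hm, hle⟩ := Ideal.exists_le_maximal _ hne
  obtain ⟨r, hr, hr0⟩ := Submodule.exists_sub_one_mem_and_smul_eq_zero_of_fg_of_le_smul m ⊤
    Module.Finite.fg_top fun x _ => h m hm x
  have hrm : r ∈ m := hle (Module.mem_annihilator.2 fun x => hr0 x Submodule.mem_top)
  exact hm.ne_top ((Ideal.eq_top_iff_one m).2 (by simpa using m.sub_mem hrm hr))

theorem subsingleton_of_quotClosed [IsNoetherianRing A] [IsProper (X ↘ Spec (CommRingCat.of A))]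
    {P : X.Modules → Prop} (hP : QuotClosed P) {n : ℕ}
    (hv : ∀ G : X.Modules, Coh.IsCoh G → Subsingleton (Coh.HH X G (n + 1)))
    (hb : ∀ m : Ideal A, m.IsMaximal → ∀ F, P F → m ≤ killIdeal F → Subsingleton (Coh.HH X F n))
    {F : X.Modules} (hF : P F) : Subsingleton (Coh.HH X F n) := by
  haveI := Groth.Agent.S0002.result A X F (hP.coh F hF) n
  refine subsingleton_of_smul_top (A := A) fun m hm => ?_
  obtain ⟨s, hs⟩ := IsNoetherian.noetherian m
  refine mem_smul_top hP hv m (hb m hm) s (fun a ha => hs ▸ Submodule.subset_span ha) F hF ?_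
  exact hs.ge.trans le_sup_left

/-- Sections lift from the quotient by the ideal when `H¹` vanishes on quotients. -/
theorem exists_quot {P : X.Modules → Prop} (hP : QuotClosed P)
    (h1 : ∀ G, P G → Subsingleton (Coh.HH X G 1)) (m : Ideal A) :
    ∀ s : Finset A, ∀ F, P F → m ≤ Ideal.span (↑s : Set A) ⊔ killIdeal F → (↑s : Set A) ⊆ m →
      ∃ (T : X.Modules) (π : F ⟶ T), m ≤ killIdeal T ∧ Function.Surjective (mapLin A π 0) ∧
        ∀ (T' : X.Modules) (ψ : F ⟶ T'), m ≤ killIdeal T' → ∃ g, π ≫ g = ψ := by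
  classical
  intro s
  induction s using Finset.induction_on with
  | empty =>
    intro F hF h _
    rw [Finset.coe_empty, Ideal.span_empty, bot_sup_eq] at h
    refine ⟨F, 𝟙 F, h, fun x => ⟨x, ?_⟩, fun T' ψ _ => ⟨ψ, Category.id_comp ψ⟩⟩
    show Sheaf.H.map ((QCoh.toAbFunctor X).map (𝟙 F)) 0 x = x
    rw [CategoryTheory.Functor.map_id, Sheaf.H.map_id_apply]
  | @insert b s _ ih =>
    intro F hF h hs
    rw [Finset.coe_insert, Set.insert_subset_iff] at hs
    have hc := hP.coh F hF
    have hC : Coh.IsCoh (cokernel (Formal.smulMod A F b)) := QCoh.isCoh_cokernel hc.1 hc _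
    obtain ⟨T, π, hT, hsurj, huniv⟩ := ih _
      (hP.quot (cokernel.π (Formal.smulMod A F b)) hC hF) (le_killIdeal_coker h) hs.2
    refine ⟨T, cokernel.π (Formal.smulMod A F b) ≫ π, hT, fun y => ?_, fun T' ψ hψ => ?_⟩
    · obtain ⟨y', rfl⟩ := hsurj y
      obtain ⟨x, rfl⟩ := surjective_π (A := A)
        (h1 _ (hP.quot (Abelian.coimage.π (Formal.smulMod A F b)) (isCoh_coimage hc hc) hF)) y'
      exact ⟨x, (mapLin_comp _ _ 0 x).symm⟩
    · obtain ⟨g, hg⟩ := huniv T' (cokernel.desc _ ψ (by
        rw [smulMod_naturality, mem_killIdeal.1 (hψ hs.1), comp_zero])) hψ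
      exact ⟨g, by rw [Category.assoc, hg, cokernel.π_desc]⟩

theorem surjective_modJπ [IsNoetherianRing A] {P : X.Modules → Prop} (hP : QuotClosed P)
    (h1 : ∀ G, P G → Subsingleton (Coh.HH X G 1)) (m : Ideal A) {F : X.Modules} (hF : P F) :
    Function.Surjective (mapLin A (modJπ m F) 0) := by
  obtain ⟨s, hs⟩ := IsNoetherian.noetherian m
  obtain ⟨T, π, hT, hsurj, huniv⟩ := exists_quot hP h1 m s F hF (hs.ge.trans le_sup_left)
    fun a ha => hs ▸ Submodule.subset_span ha
  obtain ⟨g, hg⟩ := huniv _ (modJπ m F) (le_killIdeal_modJ m F)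
  intro y
  obtain ⟨x, hx⟩ := hsurj (mapLin A (descJ π hT) 0 y)
  refine ⟨x, ?_⟩
  rw [← mapLin_congr hg, ← mapLin_comp, hx, mapLin_comp]
  refine (mapLin_congr (ψ := 𝟙 (modJ m F)) ?_ 0 y).trans ?_
  · show _ = 𝟙 (modJ m F)
    rw [← cancel_epi (modJπ m F), π_descJ_assoc, hg, Category.comp_id]
  · show Sheaf.H.map ((QCoh.toAbFunctor X).map (𝟙 _)) 0 y = y
    rw [CategoryTheory.Functor.map_id, Sheaf.H.map_id_apply]

end Groth.Agent.FibDimOne
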