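import Groth.Agent.FibDimOne.Basic
import Groth.Agent.AmpleVan.ThickPush
import Groth.Agent.CurveReg.NefBC
import Groth.Agent.CurveFinMap.Birational

/-!
# Nef modules on proper schemes over an affine base with fibres of dimension at most one
-/

set_option autoImplicit false
set_option linter.style.haveILetI false
set_option linter.unusedSectionVars false
set_option backward.isDefEq.respectTransparency false
set_option backward.isDefEq.respectTransparency.types false

universe u

open CategoryTheory CategoryTheory.Limits AlgebraicGeometry TopologicalSpace Opposite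
open Groth.Agent.PnCoh.Finite (mapLin)

noncomputable section

namespace Groth.Agent.FibDimOne

open Groth.Agent Groth.Agent.FFun Groth.Agent.H23

variable {A : Type u} [CommRing A] [IsNoetherianRing A] {X : Scheme.{u}} [X.Over (Spec (CommRingCat.of A))]

variable (A) in
/-- The closed subscheme over a quotient of the base. -/
abbrev fib (X : Scheme.{u}) [X.Over (Spec (CommRingCat.of A))] (J : Ideal A) : Scheme.{u} :=
  pullback (X ↘ Spec (CommRingCat.of A)) (Spec.map (CommRingCat.ofHom (Ideal.Quotient.mk J)))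

variable (X) in
/-- Its inclusion. -/
abbrev inc (J : Ideal A) : fib A X J ⟶ X := pullback.fst _ _

instance (J : Ideal A) : IsClosedImmersion (inc X J) :=
  haveI : IsClosedImmersion (Spec.map (CommRingCat.ofHom (Ideal.Quotient.mk J))) :=
    IsClosedImmersion.spec_of_surjective _ Ideal.Quotient.mk_surjective
  inferInstance

theorem range_inc (m : Ideal A) [hm : m.IsMaximal] :
    Set.range (inc X m) = (X ↘ Spec (CommRingCat.of A)) ⁻¹' {(⟨m, hm.isPrime⟩ : PrimeSpectrum A)} := by
  rw [AlgebraicGeometry.Scheme.Pullback.range_fst]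
  congr 1
  refine Eq.trans (range_comap_of_surjective (A ⧸ m) (Ideal.Quotient.mk m) Ideal.Quotient.mk_surjective) ?_
  rw [Ideal.mk_ker]
  ext p
  refine ⟨fun h => PrimeSpectrum.ext (hm.eq_of_le p.2.ne_top h).symm, fun h => ?_⟩
  rw [Set.mem_singleton_iff.1 h]
  exact fun x hx => hx

theorem dim_fib_le (hfib : ∀ y, topologicalKrullDim ↥(((X ↘ Spec (CommRingCat.of A))).fiber y) ≤ 1) (m : Ideal A) [m.IsMaximal] :
    topologicalKrullDim ↥(fib A X m) ≤ 1 := by
  let y : ↥(Spec (CommRingCat.of A)) := (⟨m, inferInstance⟩ : PrimeSpectrum A)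
  let g : ↥(fib A X m) → (((X ↘ Spec (CommRingCat.of A))) ⁻¹' {y} : Set X) := fun z =>
    ⟨inc X m z, by rw [← range_inc (X := X) m]; exact Set.mem_range_self z⟩
  have hg : Topology.IsInducing g :=
    (Topology.IsInducing.subtypeVal (t := ((X ↘ Spec (CommRingCat.of A))) ⁻¹' {y})).of_comp_iff.1 (inc X m).isClosedEmbedding.isInducing
  exact (((((X ↘ Spec (CommRingCat.of A))).fiberHomeo y).symm.isInducing.comp hg).topologicalKrullDim_le).trans (hfib y)

theorem subsingleton_push_iff (J : Ideal A) {G : (fib A X J).Modules} (hG : Coh.IsQCoh G) (n : ℕ) :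
    Subsingleton (Coh.HH X ((Scheme.Modules.pushforward (inc X J)).obj G) n) ↔
      Subsingleton (Coh.HH (fib A X J) G n) := by
  obtain ⟨e⟩ := QCoh.HH_push_of_isAffineHom (inc X J) hG n
  exact e.toEquiv.subsingleton_congr.symm

/-- A module killed by the ideal has the cohomology of its restriction. -/
theorem subsingleton_of_killed (J : Ideal A) {F : X.Modules} (hF : Coh.IsQCoh F) (hk : J ≤ killIdeal F)
    (n : ℕ) (h : Subsingleton (Coh.HH (fib A X J) ((Scheme.Modules.pullback (inc X J)).obj F) n)) :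
    Subsingleton (Coh.HH X F n) := by
  obtain ⟨e⟩ := AmpleVan.exists_eq_push_of_killed (i := inc X J) (IsPullback.of_hasPullback _ _) hF
    fun a ha => mem_killIdeal.1 (hk ha)
  exact QCoh.subsingleton_HH_of_iso e.symm n
    ((subsingleton_push_iff J (QCoh.isQCoh_pullback _ hF) n).2 h)

variable [IsProper (X ↘ Spec (CommRingCat.of A))]

instance fib_proper (m : Ideal A) :
    IsProper (pullback.snd (X ↘ Spec (CommRingCat.of A))
      (Spec.map (CommRingCat.ofHom (Ideal.Quotient.mk m)))) := inferInstance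

include A in
theorem isNoetherian_X : IsNoetherian X :=
  { __ := LocallyOfFiniteType.isLocallyNoetherian (X ↘ Spec (CommRingCat.of A))
    __ := QuasiCompact.compactSpace_of_compactSpace (X ↘ Spec (CommRingCat.of A)) }

theorem isSeparated_fib (m : Ideal A) : (fib A X m).IsSeparated :=
  ⟨by
    rw [← terminal.comp_from (pullback.snd (X ↘ Spec (CommRingCat.of A)) (Spec.map (CommRingCat.ofHom (Ideal.Quotient.mk m))))]
    infer_instance⟩

theorem isNoetherian_fib (m : Ideal A) : IsNoetherian (fib A X m) :=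
  haveI := isNoetherian_X (A := A) (X := X)
  { __ := LocallyOfFiniteType.isLocallyNoetherian (inc X m)
    __ := QuasiCompact.compactSpace_of_compactSpace (inc X m) }

/-- Coherent cohomology vanishes from degree two. -/
theorem subsingleton_ge_two (hfib : ∀ y, topologicalKrullDim ↥(((X ↘ Spec (CommRingCat.of A))).fiber y) ≤ 1) {F : X.Modules}
    (hF : Coh.IsCoh F) (n : ℕ) : Subsingleton (Coh.HH X F (n + 2)) := by
  haveI := isNoetherian_X (A := A) (X := X)
  haveI : QuasiSeparatedSpace X := quasiSeparatedSpace_of_quasiSeparated (X ↘ Spec (CommRingCat.of A))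
  obtain ⟨d, hd⟩ := QCoh.exists_HH_bound (X := X)
  suffices H : ∀ j n, d ≤ j + (n + 2) → ∀ F : X.Modules, Coh.IsCoh F → Subsingleton (Coh.HH X F (n + 2)) from
    H d n (Nat.le_add_right _ _) F hF
  intro j
  induction j with
  | zero => exact fun n hn F hF => hd F hF.1 _ (by omega)
  | succ j ih =>
    intro n hn F hF
    refine subsingleton_of_quotClosed (A := A) (P := Coh.IsCoh) ⟨fun _ h => h, fun _ _ h _ => h⟩
      (fun G hG => ih (n + 1) (by omega) G hG) (fun m hm G hG hk => ?_) hF
    haveI := isSeparated_fib (A := A) (X := X) m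
    haveI := isNoetherian_fib (A := A) (X := X) m
    exact subsingleton_of_killed m hG.1 hk _
      (CurveReg.subsingleton_HH_ge_two (dim_fib_le hfib m) (QCoh.isQCoh_pullback _ hG.1) n)

variable (hfib : ∀ y, topologicalKrullDim ↥(((X ↘ Spec (CommRingCat.of A))).fiber y) ≤ 1)
include hfib

theorem surjective_π₁ {F G : X.Modules} (hF : Coh.IsCoh F) (hG : Coh.IsCoh G) (φ : F ⟶ G) [Epi φ] :
    Function.Surjective (mapLin A φ 1) := by
  haveI := isNoetherian_X (A := A) (X := X)
  exact surjective_of_succ A (S := ShortComplex.mk (kernel.ι φ) φ (kernel.condition φ))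
    { exact := ShortComplex.exact_of_f_is_kernel _ (kernelIsKernel φ) } 1
    (subsingleton_ge_two hfib (QCoh.isCoh_kernel hF hG φ) 0)

theorem subsingleton_h1_fib (h1 : Subsingleton (Coh.HH X (Coh.structureModule X) 1)) (m : Ideal A) :
    Subsingleton (Coh.HH (fib A X m) (Coh.structureModule (fib A X m)) 1) := by
  haveI := isNoetherian_X (A := A) (X := X)
  let i := inc X m
  have hO : Coh.IsCoh (Coh.structureModule X) := QCoh.isCoh_structureModule'
  obtain ⟨hd, he⟩ := AmpleVan.unit_desc_iso (i := i) (IsPullback.of_hasPullback _ _) hO.1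
  haveI := he
  have hC : Coh.IsCoh (modJ m (Coh.structureModule X)) := isCoh_modJ m hO
  haveI : Subsingleton (Coh.HH X (modJ m (Coh.structureModule X)) 1) :=
    (surjective_π₁ hfib hO hC (modJπ m (Coh.structureModule X))).subsingleton
  have h := QCoh.subsingleton_HH_of_iso (asIso (cokernel.desc _ _ hd)) 1 this
  exact QCoh.subsingleton_HH_of_iso (CurveBC.unitIso i) 1
    ((subsingleton_push_iff m (QCoh.isQCoh_pullback i hO.1) 1).1 h)

variable (h1 : Subsingleton (Coh.HH X (Coh.structureModule X) 1)) {L : X.Modules} (hL : PicF.IsInvertible L)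
  (hc : ∀ m : Ideal A, m.IsMaximal → CurveReg.Cover ((Scheme.Modules.pullback (inc X m)).obj L))

include h1 hL hc

theorem quotClosed : QuotClosed fun F : X.Modules => Coh.IsCoh F ∧ ∃ g : L ⟶ F, Epi g :=
  ⟨fun _ h => h.1, fun φ _ hG h => ⟨hG, by
    obtain ⟨g, hg⟩ := h.2
    haveI := hg
    exact ⟨g ≫ φ, inferInstance⟩⟩⟩

theorem subsingleton_h1 {F : X.Modules} (hF : Coh.IsCoh F) (g : L ⟶ F) [Epi g] :
    Subsingleton (Coh.HH X F 1) := by
  haveI := isNoetherian_X (A := A) (X := X)
  refine subsingleton_of_quotClosed (A := A) (quotClosed hfib h1 hL hc)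
    (fun G hG => subsingleton_ge_two hfib hG 0) (fun m hm G hG hk => ?_) ⟨hF, g, inferInstance⟩
  obtain ⟨hGc, g', hg'⟩ := hG
  haveI := hg'
  haveI := isSeparated_fib (A := A) (X := X) m
  haveI := isNoetherian_fib (A := A) (X := X) m
  letI : Field (A ⧸ m) := Ideal.Quotient.field m
  letI : (fib A X m).Over (Spec (CommRingCat.of (A ⧸ m))) := ⟨pullback.snd _ _⟩
  haveI : IsProper (fib A X m ↘ Spec (CommRingCat.of (A ⧸ m))) := fib_proper (A := A) (X := X) m
  refine subsingleton_of_killed m hGc.1 hk 1 ?_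
  haveI : (Scheme.Modules.pullback (inc X m)).IsLeftAdjoint :=
    (Scheme.Modules.pullbackPushforwardAdjunction (inc X m)).isLeftAdjoint
  exact CurveReg.subsingleton_h1_of_epi (A ⧸ m) (dim_fib_le hfib m)
    (QCoh.isQCoh_pullback _ (CurveDeg.isCoh_of_isInvertible hL).1) (QCoh.isQCoh_pullback _ hGc.1)
    ((Scheme.Modules.pullback (inc X m)).map g')
    (CurveReg.subsingleton_h1_of_cover (A ⧸ m) (dim_fib_le hfib m) (subsingleton_h1_fib hfib h1 m)
      (PicClLib.isInvertible_pullback _ hL) (hc m hm))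

theorem isGloballyGenerated : Curv2.IsGloballyGenerated L := by
  haveI := isNoetherian_X (A := A) (X := X)
  have hLc := CurveDeg.isCoh_of_isInvertible hL
  suffices H : CurveReg.Cover L by
    choose z hz using H
    exact InvX.isGloballyGenerated_of_generated (AVAmple.generatedBy_of_locus z fun x => ⟨x, hz x⟩)
  intro x
  obtain ⟨p, hpx, hp⟩ := IsClosed.exists_closed_singleton (isClosed_closure (s := ({x} : Set X)))
    (Set.singleton_nonempty x).closure
  suffices ∃ z : Γ(L, ⊤), p ∈ TrivBasic.locus z by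
    obtain ⟨z, hz⟩ := this
    exact ⟨z, (specializes_iff_mem_closure.2 hpx).mem_open (TrivBasic.locus z).2 hz⟩
  have hy : IsClosed ({((X ↘ Spec (CommRingCat.of A))) p} : Set (PrimeSpectrum A)) := by
    have := ((X ↘ Spec (CommRingCat.of A))).isClosedMap _ hp
    rwa [Set.image_singleton] at this
  let m : Ideal A := (((X ↘ Spec (CommRingCat.of A))) p : PrimeSpectrum A).asIdeal
  haveI hm : m.IsMaximal := (PrimeSpectrum.isClosed_singleton_iff_isMaximal _).1 hy
  obtain ⟨q, hq⟩ : p ∈ Set.range (inc X m) := by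
    rw [range_inc]
    exact rfl
  obtain ⟨t, ht⟩ := hc m hm q
  obtain ⟨hd, he⟩ := AmpleVan.unit_desc_iso (i := inc X m) (IsPullback.of_hasPullback _ _) hLc.1
  haveI := he
  let d := cokernel.desc _ _ hd
  have hs := surjective_modJπ (A := A) (quotClosed hfib h1 hL hc)
    (fun G hG => by
      obtain ⟨hGc, g, hg⟩ := hG
      haveI := hg
      exact subsingleton_h1 hfib h1 hL hc hGc g) m (F := L) ⟨hLc, 𝟙 L, inferInstance⟩
  let N := (Scheme.Modules.pullback (inc X m)).obj L
  let e (G : X.Modules) := Sheaf.H.equiv₀ (Coh.toAb G) isTerminalTop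
  let t' : Γ((Scheme.Modules.pushforward (inc X m)).obj N, ⊤) := t
  obtain ⟨ξ, hξ⟩ := hs ((e (modJ m L)).symm ((inv d).app ⊤ t'))
  refine ⟨e L ξ, ?_⟩
  have h2 : (modJπ m L).app ⊤ (e L ξ) = (inv d).app ⊤ t' := by
    refine (Sheaf.H.equiv₀_naturality isTerminalTop ((QCoh.toAbFunctor X).map (modJπ m L)) ξ).trans ?_
    exact (congrArg (e (modJ m L)) hξ).trans (AddEquiv.apply_symm_apply _ _)
  have h3 : InvX.pullElt (inc X m) (U := ⊤) (e L ξ : Γ(L, ⊤)) = t := by
    show ((Scheme.Modules.pullbackPushforwardAdjunction (inc X m)).unit.app L).app ⊤ (e L ξ) = t'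
    rw [← cokernel.π_desc _ _ hd]
    refine (congrArg (d.app ⊤) h2).trans ?_
    exact congr(($(IsIso.inv_hom_id d)).app ⊤ t')
  have h4 : q ∈ TrivBasic.locus (InvX.pullElt (inc X m) (U := ⊤) (e L ξ : Γ(L, ⊤))) := by
    rw [h3]; exact ht
  rw [← hq]
  exact (TrivBasic.locus_pullElt hL (inc X m) (e L ξ : Γ(L, ⊤))).le h4

omit hfib h1 hL hc

/-- Degrees are transported along an isomorphism of curves. -/
theorem deg_nonneg_of_iso (K : Type u) [Field K] {S W Z Y : Scheme.{u}} (κ : S ⟶ Y) (w : W ⟶ Z) (i : Z ⟶ Y)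
    [Z.Over (Spec (CommRingCat.of K))] [IsProper (Z ↘ Spec (CommRingCat.of K))] [IsClosedImmersion w] [IsIntegral W]
    (e : W ≅ S) (hr : e.inv ≫ w ≫ i = κ) (t : S ⟶ Spec (CommRingCat.of K))
    (ht : t = e.inv ≫ w ≫ (Z ↘ Spec (CommRingCat.of K))) {M : Y.Modules} (hM : PicF.IsInvertible M)
    (h : 0 ≤ @Curv2.deg K _ S ⟨t⟩ ((Scheme.Modules.pullback κ).obj M) 1)
    (hdim : topologicalKrullDim S ≤ 1) :
    0 ≤ @Curv2.deg K _ W ⟨w ≫ (Z ↘ Spec (CommRingCat.of K))⟩
      ((Scheme.Modules.pullback w).obj ((Scheme.Modules.pullback i).obj M)) 1 := by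
  letI : W.Over (Spec (CommRingCat.of K)) := ⟨w ≫ (Z ↘ Spec (CommRingCat.of K))⟩
  letI : S.Over (Spec (CommRingCat.of K)) := ⟨t⟩
  haveI : IsProper (W ↘ Spec (CommRingCat.of K)) :=
    inferInstanceAs (IsProper (w ≫ (Z ↘ Spec (CommRingCat.of K))))
  haveI : IsProper (S ↘ Spec (CommRingCat.of K)) := by
    show IsProper t
    rw [ht]
    infer_instance
  haveI : IsIso (e.hom ∣_ (⊤ : S.Opens)) := inferInstance
  have h2 := CurveFinMap.deg_pullback_birational e.hom K hdim
    (by show e.hom ≫ t = w ≫ _; rw [ht, e.hom_inv_id_assoc]) ⊤ (by simp) (by simp) inferInstance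
    (InvEnd.isFinLocFreeOfRank_one (PicClLib.isInvertible_pullback κ hM))
  let φ : (Scheme.Modules.pullback e.hom).obj ((Scheme.Modules.pullback κ).obj M) ≅
      (Scheme.Modules.pullback w).obj ((Scheme.Modules.pullback i).obj M) :=
    (Scheme.Modules.pullbackComp e.hom κ).app M ≪≫
      (Scheme.Modules.pullbackCongr (show e.hom ≫ κ = w ≫ i by rw [← hr, e.hom_inv_id_assoc])).app M ≪≫
      ((Scheme.Modules.pullbackComp w i).app M).symm
  rw [CurveRR.deg_congr (k := K) φ 1] at h2
  rw [h2]
  exact h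

end Groth.Agent.FibDimOne
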