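import Groth.Agent.QCoh.ExtendFT
import Groth.Agent.QCoh.CechComparison
import Groth.Agent.KZ.OpenExt

/-!
# Cohomology of quasi-coherent modules from cohomology of coherent submodules
-/

set_option autoImplicit false
set_option linter.style.haveILetI false
set_option linter.unusedSectionVars false
set_option backward.isDefEq.respectTransparency false
set_option backward.isDefEq.respectTransparency.types false

universe u

open CategoryTheory CategoryTheory.Limits AlgebraicGeometry TopologicalSpace Opposite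

noncomputable section

namespace Groth.Agent.FibDimOne

open Groth.Agent

variable {X : Scheme.{u}} [IsNoetherian X] {F : X.Modules}

/-- Finitely many sections over an affine open lie in a coherent submodule. -/
theorem exists_coh_of_finite (hF : Coh.IsQCoh F) {V : X.Opens} (hV : IsAffineOpen V) {T : Set Γ(F, V)}
    (hT : T.Finite) : ∃ (G : X.Modules) (φ : G ⟶ F), Coh.IsCoh G ∧ ∀ t ∈ T, ∃ g, φ.app V g = t := by
  obtain ⟨p, hp, hsup, hstep⟩ := QCoh.extStep_noetherian (X := X) (fun _ => ⟨⊤, trivial, inferInstance⟩) V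
  obtain ⟨N, hN, hag⟩ := QCoh.exists_ftOn_top hF p hp hsup hstep (QCoh.ftOn_spanSub hV hT)
  refine ⟨N.toModules, N.ι, ⟨QCoh.isQCoh_of_ftOn hF hN, QCoh.isFT_of_ftOn hF hN⟩, fun t ht => ?_⟩
  exact N.exists_app_eq ((hag V le_rfl).ge (QCoh.mem_spanSub ht))

/-- Finitely many sections over affine opens lie in a coherent submodule. -/
theorem exists_coh_family (hF : Coh.IsQCoh F) {κ : Type*} [Finite κ] (V : κ → X.Opens)
    (hV : ∀ j, IsAffineOpen (V j)) (t : ∀ j, Γ(F, V j)) :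
    ∃ (G : X.Modules) (φ : G ⟶ F), Coh.IsCoh G ∧ Mono φ ∧ ∀ j, ∃ g, φ.app (V j) g = t j := by
  classical
  obtain ⟨G, φ, hG, hφ⟩ : ∃ (G : X.Modules) (φ : G ⟶ F), Coh.IsCoh G ∧ ∀ j, ∃ g, φ.app (V j) g = t j := by
    haveI := Fintype.ofFinite κ
    suffices H : ∀ s : Finset κ, ∃ (G : X.Modules) (φ : G ⟶ F), Coh.IsCoh G ∧
        ∀ j ∈ s, ∃ g, φ.app (V j) g = t j by
      obtain ⟨G, φ, hG, hφ⟩ := H Finset.univ
      exact ⟨G, φ, hG, fun j => hφ j (Finset.mem_univ j)⟩
    intro s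
    induction s using Finset.induction_on with
    | empty =>
      obtain ⟨G, φ, hG, -⟩ := exists_coh_of_finite hF (isAffineOpen_bot X) (T := ∅) Set.finite_empty
      exact ⟨G, φ, hG, by simp⟩
    | @insert b s _ ih =>
      obtain ⟨G, φ, hG, hφ⟩ := ih
      obtain ⟨G', φ', hG', hφ'⟩ := exists_coh_of_finite hF (hV b) (Set.finite_singleton (t b))
      refine ⟨G ⊞ G', biprod.desc φ φ', KZ.isCoh_biprod hG hG', fun j hj => ?_⟩
      rcases Finset.mem_insert.1 hj with rfl | hj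
      · obtain ⟨g, hg⟩ := hφ' (t j) rfl
        refine ⟨(biprod.inr : G' ⟶ G ⊞ G').app (V j) g, ?_⟩
        exact (congr(($(biprod.inr_desc φ φ')).app (V j) g)).trans hg
      · obtain ⟨g, hg⟩ := hφ j hj
        refine ⟨(biprod.inl : G ⟶ G ⊞ G').app (V j) g, ?_⟩
        exact (congr(($(biprod.inl_desc φ φ')).app (V j) g)).trans hg
  refine ⟨Abelian.coimage φ, Abelian.factorThruCoimage φ,
    QCoh.isCoh_cokernel (QCoh.isQCoh_kernel hG.1 hF φ) hG _, inferInstance, fun j => ?_⟩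
  obtain ⟨g, hg⟩ := hφ j
  exact ⟨(Abelian.coimage.π φ).app (V j) g,
    (congr(($(Abelian.coimage.fac φ)).app (V j) g)).trans hg⟩

/-- Positive cohomology of a quasi-coherent module vanishes if it does on coherent submodules. -/
theorem subsingleton_of_family [X.IsSeparated] (hF : Coh.IsQCoh F) (q : ℕ)
    (h : ∀ (κ : Type u) [Finite κ] (V : κ → X.Opens), (∀ j, IsAffineOpen (V j)) → ∀ t : ∀ j, Γ(F, V j),
      ∃ (G : X.Modules) (φ : G ⟶ F), Coh.IsCoh G ∧ Mono φ ∧ Subsingleton (Coh.HH X G (q + 1)) ∧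
        ∀ j, ∃ g, φ.app (V j) g = t j) :
    Subsingleton (Coh.HH X F (q + 1)) := by
  classical
  obtain ⟨S, hS⟩ := isCompact_univ.elim_finite_subcover (fun V : X.affineOpens => (V.1 : Set X))
    (fun V => V.1.2) fun x _ => by
      obtain ⟨W, hW, hxW, -⟩ := exists_isAffineOpen_mem_and_subset (x := x) (U := ⊤) trivial
      exact Set.mem_iUnion.2 ⟨⟨W, hW⟩, hxW⟩
  let U : S → X.Opens := fun j => j.1.1
  have hcov : ⨆ j, U j = ⊤ := top_unique fun x _ => by
    obtain ⟨V, hV, hxV⟩ := Set.mem_iUnion₂.1 (hS (Set.mem_univ x))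
    exact Opens.mem_iSup.2 ⟨⟨V, hV⟩, hxV⟩
  have hU : ∀ {p : ℕ} (σ : Fin (p + 1) → S), IsAffineOpen (⨅ a, U (σ a)) := fun {p} σ =>
    IsAffineOpen.iInf (fun a => (σ a).1.2)
  obtain ⟨e⟩ := QCoh.Ab.natCx_H_equiv (X := X.toPresheafedSpace.carrier) hcov
    (QCoh.stdCovers_sectionClass hU) (QCoh.abSheaf F) (QCoh.stdCovers_acyclic hF) (q + 1)
  refine @Equiv.subsingleton _ _ e.symm.toEquiv (AddCommGrpCat.subsingleton_of_isZero ?_)
  rw [← HomologicalComplex.exactAt_iff_isZero_homology,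
    HomologicalComplex.exactAt_iff' _ q (q + 1) (q + 2) (by simp) (by simp), ShortComplex.ab_exact_iff]
  simp only [HomologicalComplex.sc', HomologicalComplex.shortComplexFunctor'_obj_f,
    HomologicalComplex.shortComplexFunctor'_obj_g, QCoh.Ab.natCx_d]
  intro c hc
  let V : (Fin (q + 1 + 1) → S) → X.Opens := fun σ => ⨅ a, U (σ a)
  obtain ⟨G, φ, hG, hmono, hsub, hlift⟩ := h _ V (fun σ => hU σ)
    (fun σ => c.1 σ ⟨V σ, fun a => iInf_le (fun a => U (σ a)) a⟩)
  choose g hg using hlift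
  haveI := hmono
  let c' : QCoh.Ab.Cochain (QCoh.abSheaf G).obj (fun j : S => U j) (q + 1 + 1) := fun σ W =>
    G.presheaf.map (homOfLE (le_iInf W.2)).op (g σ)
  have hc' : QCoh.Ab.IsNatural c' := fun σ W W' hW hW' i =>
    QCoh.Ab.map_map'' (QCoh.abSheaf G).obj _ i _ _
  have hp : QCoh.Ab.push ((QCoh.toAbFunctor X).map φ).hom c' = c.1 := funext₂ fun σ W => by
    show φ.app W.1 (G.presheaf.map (homOfLE (le_iInf W.2)).op (g σ)) = _
    rw [QCoh.map_app_comm, hg]
    exact c.2 σ _ W.1 _ W.2 _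
  have hinj : ∀ {p : ℕ} (a b : QCoh.Ab.Cochain (QCoh.abSheaf G).obj (fun j : S => U j) p),
      QCoh.Ab.push ((QCoh.toAbFunctor X).map φ).hom a = QCoh.Ab.push ((QCoh.toAbFunctor X).map φ).hom b → a = b :=
    fun a b hab => funext₂ fun σ W => QCoh.app_injective φ W.1 (congrFun (congrFun hab σ) W)
  have hd : QCoh.Ab.d c' = 0 := hinj _ _ (by
    rw [← QCoh.Ab.d_push, hp]
    refine (congrArg Subtype.val hc).trans ?_
    funext σ W
    exact (map_zero (φ.app W.1).hom).symm)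
  obtain ⟨eG⟩ := QCoh.Ab.natCx_H_equiv (X := X.toPresheafedSpace.carrier) hcov
    (QCoh.stdCovers_sectionClass hU) (QCoh.abSheaf G) (QCoh.stdCovers_acyclic hG.1) (q + 1)
  haveI := @Equiv.subsingleton _ _ eG.toEquiv hsub
  have hz := AddCommGrpCat.isZero_of_subsingleton
    ((QCoh.Ab.natCx (QCoh.abSheaf G).obj (fun j : S => U j)).homology (q + 1))
  rw [← HomologicalComplex.exactAt_iff_isZero_homology,
    HomologicalComplex.exactAt_iff' _ q (q + 1) (q + 2) (by simp) (by simp), ShortComplex.ab_exact_iff] at hz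
  simp only [HomologicalComplex.sc', HomologicalComplex.shortComplexFunctor'_obj_f,
    HomologicalComplex.shortComplexFunctor'_obj_g, QCoh.Ab.natCx_d] at hz
  obtain ⟨b, hb⟩ := hz ⟨c', hc'⟩ (Subtype.ext hd)
  refine ⟨⟨QCoh.Ab.push ((QCoh.toAbFunctor X).map φ).hom b.1, QCoh.Ab.push_natural _ b.2⟩, Subtype.ext ?_⟩
  show QCoh.Ab.d (QCoh.Ab.push ((QCoh.toAbFunctor X).map φ).hom b.1) = c.1
  rw [QCoh.Ab.d_push, ← hp]
  exact congrArg (QCoh.Ab.push _) (congrArg Subtype.val hb)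

/-- Positive cohomology vanishes if it does on all coherent submodules. -/
theorem subsingleton_of_coh_sub [X.IsSeparated] (hF : Coh.IsQCoh F) (q : ℕ)
    (h : ∀ (G : X.Modules) (φ : G ⟶ F), Coh.IsCoh G → Mono φ → Subsingleton (Coh.HH X G (q + 1))) :
    Subsingleton (Coh.HH X F (q + 1)) :=
  subsingleton_of_family hF q fun κ _ V hV t => by
    obtain ⟨G, φ, hG, hm, hl⟩ := exists_coh_family hF V hV t
    exact ⟨G, φ, hG, hm, h G φ hG hm, hl⟩

end Groth.Agent.FibDimOne
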