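import Groth.Agent.FibDimOne.Nef
import Groth.Agent.FibDimOne.QCVanish
import Groth.Agent.CurveReg.Embed
import Groth.Agent.CurveReg.Pow
import Groth.Agent.VeryAmple.Main
import Groth.Agent.GenLocUC.Basic
import Groth.Agent.AmpleX.RelAffine
import Groth.Agent.S0002
import Groth.Agent.S3572

/-!
# Ample modules are very ample when the fibres have dimension at most one and `H¹(O) = 0`
-/

set_option autoImplicit false
set_option linter.style.haveILetI false
set_option linter.unusedSectionVars false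
set_option backward.isDefEq.respectTransparency false
set_option backward.isDefEq.respectTransparency.types false
set_option synthInstance.maxHeartbeats 200000

universe u

open CategoryTheory CategoryTheory.Limits AlgebraicGeometry TopologicalSpace Opposite HomogeneousLocalization
open Groth.Agent.PnCoh.Finite (mapLin deltaLin exists_of_deltaLin_eq_zero)

noncomputable section

namespace Groth.Agent.FibDimOne

open Groth.Agent Groth.Agent.FFun Groth.Agent.InvX Groth.Agent.H23 Groth.Agent.CurveReg Groth.Agent.CurveEmbed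

variable {A : Type u} [CommRing A] [IsNoetherianRing A] {X : Scheme.{u}} [X.Over (Spec (CommRingCat.of A))]

variable (A) in
include A in
theorem subsingleton_HH_biproduct {ι : Type} [Fintype ι] (T : ι → X.Modules) (n : ℕ)
    (h : ∀ i, Subsingleton (Coh.HH X (T i) n)) : Subsingleton (Coh.HH X (⨁ T) n) := by
  classical
  refine subsingleton_of_forall_eq 0 fun x => ?_
  have key : ∀ s : Finset ι, mapLin A (∑ j ∈ s, biproduct.π T j ≫ biproduct.ι T j) n x = 0 := fun s => by
    induction s using Finset.induction with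
    | empty =>
      rw [Finset.sum_empty]
      show Sheaf.H.map ((QCoh.toAbFunctor X).map 0) n x = 0
      rw [Functor.map_zero]
      show ((Sheaf.functorH _ n).map 0).hom x = 0
      rw [Functor.map_zero]
      rfl
    | insert a s ha ih =>
      rw [Finset.sum_insert ha]
      show Sheaf.H.map ((QCoh.toAbFunctor X).map _) n x = 0
      rw [Functor.map_add, Sheaf.H.map_add_apply]
      have h0 : mapLin A (biproduct.π T a ≫ biproduct.ι T a) n x = 0 := by
        haveI := h a
        rw [← FFun.mapLin_comp, Subsingleton.elim (mapLin A (biproduct.π T a) n x) 0, map_zero]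
      show mapLin A (biproduct.π T a ≫ biproduct.ι T a) n x +
        mapLin A (∑ j ∈ s, biproduct.π T j ≫ biproduct.ι T j) n x = 0
      rw [h0, ih, add_zero]
  refine Eq.trans ?_ (key Finset.univ)
  rw [biproduct.total]
  show x = Sheaf.H.map ((QCoh.toAbFunctor X).map (𝟙 _)) n x
  rw [CategoryTheory.Functor.map_id, Sheaf.H.map_id_apply]

variable [IsProper (X ↘ Spec (CommRingCat.of A))]
  (hfib : ∀ y, topologicalKrullDim ↥(((X ↘ Spec (CommRingCat.of A))).fiber y) ≤ 1)

include hfib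

theorem subsingleton_h1_of_epi {N M : X.Modules} (hN : Coh.IsQCoh N) (hM : Coh.IsQCoh M) (φ : N ⟶ M) [Epi φ]
    (h : Subsingleton (Coh.HH X N 1)) : Subsingleton (Coh.HH X M 1) :=
  (surjective_of_succ A (S := ShortComplex.mk (kernel.ι φ) φ (kernel.condition φ))
    { exact := ShortComplex.exact_of_f_is_kernel _ (kernelIsKernel φ) } 1
    (subsingleton_ge_two_qcoh hfib (QCoh.isQCoh_kernel hN hM φ) 0)).subsingleton

variable {L : X.Modules} (hL : PicF.IsInvertible L) {m : ℕ} (t : Fin m → Γ(L, ⊤))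
  (hcov : ∀ x : X, ∃ i, x ∈ TrivBasic.locus (t i))

include hL hcov

theorem subsingleton_h1_tensor {G : X.Modules} (hG : PicF.IsInvertible G) (h : Subsingleton (Coh.HH X G 1)) :
    Subsingleton (Coh.HH X (CohB1.tensorMod G L) 1) := by
  haveI := epi_mulAll t hG hL hcov
  exact subsingleton_h1_of_epi hfib (isQCoh_sum hG) (ProjUPX.isQCoh_of_isInvertible (isInvertible_tensorMod hG hL))
    (mulAll t G) (subsingleton_HH_biproduct A _ 1 fun _ => h)

/-- Castelnuovo's lemma over an affine base. -/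
theorem exists_sum_iso {G N : X.Modules} (hG : PicF.IsInvertible G) (h : Subsingleton (Coh.HH X G 1))
    (e : N ≅ CohB1.tensorMod G L) (u : Γ(CohB1.tensorMod N L, ⊤)) :
    ∃ a : Fin m → Γ(N, ⊤), u = ∑ i, InvX.tmul (a i) (t i) := by
  let T := (AmpleVan.tw L).obj G
  have hT : PicF.IsInvertible T := isInvertible_tensorMod hG hL
  let Φ := mulAll t T
  haveI : Epi Φ := epi_mulAll t hT hL hcov
  haveI := exact_koszul t hG hL hcov
  have hK : Subsingleton (Coh.HH X (kernel Φ) 1) :=
    subsingleton_h1_of_epi hfib (isQCoh_sum hG)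
      (QCoh.isQCoh_kernel (isQCoh_sum hT) (ProjUPX.isQCoh_of_isInvertible (isInvertible_tensorMod hT hL)) Φ)
      (kernel.lift Φ (koszul t G) (koszul_mulAll t hL G)) (subsingleton_HH_biproduct A _ 1 fun _ => h)
  have hS : (ShortComplex.mk (kernel.ι Φ) Φ (kernel.condition Φ)).ShortExact :=
    ShortComplex.ShortExact.mk' (ShortComplex.exact_of_f_is_kernel _ (kernelIsKernel Φ)) inferInstance inferInstance
  obtain ⟨z, hz⟩ := QCoh.app_top_surjective_of_HH_one hS hK (((AmpleVan.tw L).map e.hom).app ⊤ u)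
  refine ⟨fun i => e.inv.app ⊤ ((biproduct.π (fun _ : Fin m => T) i).app ⊤ z), ?_⟩
  have h1 : ((AmpleVan.tw L).map e.inv).app ⊤ (((AmpleVan.tw L).map e.hom).app ⊤ u) = u :=
    congr(($(((AmpleVan.tw L).mapIso e).hom_inv_id)).app ⊤ u)
  rw [← h1, ← hz]
  show ((AmpleVan.tw L).map e.inv).app ⊤ (Φ.app ⊤ z) = _
  conv_lhs => rw [sum_components _ z, map_sum, map_sum]
  refine Finset.sum_congr rfl fun i _ => ?_
  rw [mulAll_ι t T i, AModX.res_self]
  exact AmpleVan.map_tmul_left e.inv _ _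

omit hL hcov t m hfib

theorem h0_smul (M : X.Modules) (a : A) (z : Coh.HH X M 0) :
    (Sheaf.H.equiv₀ (Coh.toAb M) isTerminalTop (a • z) : Γ(M, ⊤)) =
      (show Γ(X, ⊤) from Coh.resTop X (op ⊤) (Coh.toGlobal (X ↘ Spec (CommRingCat.of A)) a)) •
        (show Γ(M, ⊤) from Sheaf.H.equiv₀ (Coh.toAb M) isTerminalTop z) :=
  (Sheaf.H.equiv₀_naturality isTerminalTop (Coh.smulAb M (Coh.toGlobal (X ↘ Spec (CommRingCat.of A)) a)) z).symm

/-- Finitely many sections span the sections over the base. -/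
theorem exists_finspan {M : X.Modules} (hM : Coh.IsCoh M) :
    ∃ (N : ℕ) (σ : Fin N → Γ(M, ⊤)), ∀ z : Γ(M, ⊤), ∃ c : Fin N → A,
      z = ∑ j, (X ↘ Spec (CommRingCat.of A)).appTop ((Scheme.ΓSpecIso (CommRingCat.of A)).inv (c j)) • σ j := by
  haveI := Groth.Agent.S0002.result A X M hM 0
  obtain ⟨N, b, hb⟩ := Module.Finite.exists_fin (R := A) (M := Coh.HH X M 0)
  let e := Sheaf.H.equiv₀ (Coh.toAb M) isTerminalTop
  refine ⟨N, fun j => (e (b j) : Γ(M, ⊤)), fun z => ?_⟩
  obtain ⟨c, hc⟩ := (Submodule.mem_span_range_iff_exists_fun A).1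
    (hb.ge (Submodule.mem_top (x := e.symm z)))
  refine ⟨c, ?_⟩
  conv_lhs => rw [← e.apply_symm_apply z, ← hc]
  refine (map_sum e _ _).trans (Finset.sum_congr rfl fun j _ => ?_)
  refine (h0_smul M _ _).trans ?_
  refine congrArg (fun c : Γ(X, ⊤) => c • (show Γ(M, ⊤) from e (b j))) ?_
  exact ConcreteCategory.congr_hom (X.presheaf.map_id (op ⊤)) _

/-- Sections whose multiples fill the section ring of an ample module embed into projective space over the base. -/
theorem isRelVeryAmplePn_of_mulSpan {L : X.Modules} (hamp : CohB1.IsAmple L) {n : ℕ} (s : Fin (n + 1) → Γ(L, ⊤))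
    (hcov : ∀ x : X, ∃ i, x ∈ TrivBasic.locus (s i))
    (hspan : ∀ z : Γ(L, ⊤), ∃ c : Fin (n + 1) → A,
      z = ∑ j, (X ↘ Spec (CommRingCat.of A)).appTop ((Scheme.ΓSpecIso (CommRingCat.of A)).inv (c j)) • s j)
    (hm : ∀ (m : ℕ) (u : Γ(P L (m + 1), ⊤)), ∃ a : Fin (n + 1) → Γ(P L m, ⊤),
      u = ((∑ j, InvX.tmul (a j) (s j) : Γ(CohB1.tensorMod (P L m) L, ⊤)))) :
    RelAmple.IsRelVeryAmplePn (X ↘ Spec (CommRingCat.of A)) L := by
  classical
  let f := X ↘ Spec (CommRingCat.of A)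
  let S₀ : Scheme.{u} := Spec (CommRingCat.of A)
  haveI := isNoetherian_X (A := A) (X := X)
  haveI := isSeparated_X (A := A) (X := X)
  have hL := hamp.1
  obtain ⟨r, -, τ, hτ⟩ := S3572.result n (specULiftZIsTerminal.from X) L hL s
    (VeryAmple.generatedBy_of_locus s hcov)
  let π : CohB1.ProjSpaceOver n S₀ ⟶ CohB1.ProjSpace n (ULift.{u} ℤ) :=
    pullback.fst (CohB1.ProjSpace.toSpec n (ULift.{u} ℤ)) (specULiftZIsTerminal.from S₀)
  let i' : X ⟶ CohB1.ProjSpaceOver n S₀ := pullback.lift r f (specULiftZIsTerminal.hom_ext _ _)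
  have hfst : i' ≫ π = r := pullback.lift_fst _ _ _
  have hsnd : i' ≫ CohB1.ProjSpaceOver.toBase n S₀ = f := pullback.lift_snd _ _ _
  let D : Fin (n + 1) → (CohB1.ProjSpace n (ULift.{u} ℤ)).Opens := fun i =>
    Proj.basicOpen (CohB1.polyGrading n (ULift.{u} ℤ)) (MvPolynomial.X i)
  let U : Fin (n + 1) → X.Opens := fun i => TrivBasic.locus (s i)
  have hpre : ∀ i, r ⁻¹ᵁ D i = U i := fun i => AmpleEmbed.preimage_chart r τ i (hτ i)
  let D' : Fin (n + 1) → (CohB1.ProjSpaceOver n S₀).Opens := fun i =>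
    π ⁻¹ᵁ D i ⊓ CohB1.ProjSpaceOver.toBase n S₀ ⁻¹ᵁ ⊤
  have hpre' : ∀ i, i' ⁻¹ᵁ D' i = U i := fun i => by
    show i' ⁻¹ᵁ (π ⁻¹ᵁ D i) ⊓ i' ⁻¹ᵁ (CohB1.ProjSpaceOver.toBase n S₀ ⁻¹ᵁ ⊤) = U i
    rw [← Scheme.Hom.comp_preimage, ← Scheme.Hom.comp_preimage, hfst, hsnd, hpre]
    exact inf_eq_left.2 le_top
  have hsup : iSup D' = ⊤ := by
    refine top_le_iff.1 fun y _ => ?_
    obtain ⟨i, hi⟩ := Opens.mem_iSup.1 ((AmpleEmbed.iSup_basicOpen_X n (ULift.{u} ℤ)).ge (show π y ∈ ⊤ from trivial))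
    exact Opens.mem_iSup.2 ⟨i, hi, trivial⟩
  have hI : IsClosedImmersion i' := by
    refine IsZariskiLocalAtTarget.of_iSup_eq_top (P := @IsClosedImmersion) D' hsup fun i => ?_
    haveI : IsAffine (D' i : Scheme) :=
      VeryAmple.isAffineOpen_chart n (isAffineOpen_top S₀) (Proj.isAffineOpen_basicOpen _ _ (ProjPt.X_mem _) one_pos)
    haveI : IsAffine (i' ⁻¹ᵁ D' i : Scheme) := by
      rw [hpre']
      exact GenLocUC.isAffineOpen_genLocus f hamp (ofSect (s i))
    refine IsClosedImmersion.of_surjective_of_isAffine _ ?_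
    let S : Subring Γ(X, U i) := (i'.appLE (D' i) (U i) (hpre' i).ge).hom.range
    let e : Γ(L, U i) := AModX.res L (le_top : U i ≤ ⊤) (s i)
    have hconst : ∀ c : A, AModX.resR (le_top : U i ≤ ⊤) (f.appTop ((Scheme.ΓSpecIso (CommRingCat.of A)).inv c)) ∈ S :=
      fun c => by
      refine ⟨(CohB1.ProjSpaceOver.toBase n S₀).appLE ⊤ (D' i) inf_le_right
        ((Scheme.ΓSpecIso (CommRingCat.of A)).inv c), ?_⟩
      rw [← CommRingCat.comp_apply, Scheme.Hom.appLE_comp_appLE]
      simp only [hsnd]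
      rfl
    have he : IsFrame e := TrivBasic.isFrame_res_of_le_locus le_rfl
    have hj : ∀ j, ∃ β ∈ S, AModX.res L (le_top : U i ≤ ⊤) (s j) = β • e := fun j => by
      obtain ⟨β, hβ⟩ := he.exists_coord le_rfl (AModX.res L (le_top : U i ≤ ⊤) (s j))
      rw [AModX.res_self] at hβ
      refine ⟨β, ⟨π.appLE (D i) (D' i) inf_le_left
        ((Proj.awayToSection (CohB1.polyGrading n (ULift.{u} ℤ)) (MvPolynomial.X i)).hom
        (Away.mk (CohB1.polyGrading n (ULift.{u} ℤ)) (ProjPt.X_mem _) 1 (MvPolynomial.X j)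
          (by rw [one_smul]; exact ProjPt.X_mem _))), ?_⟩, hβ⟩
      rw [← CommRingCat.comp_apply, Scheme.Hom.appLE_comp_appLE]
      simp only [hfst]
      exact AmpleEmbed.ratioOf_eq r τ _ _ (hτ i) (hτ j) (hpre i).ge β hβ
    have h1 : ∀ z : Γ(L, ⊤), ∃ β ∈ S, AModX.res L (le_top : U i ≤ ⊤) z = β • e := fun z => by
      obtain ⟨c, rfl⟩ := hspan z
      rw [map_sum]
      refine Finset.sum_induction _ (fun w => ∃ β ∈ S, w = β • e) ?_ ⟨0, S.zero_mem, (zero_smul _ _).symm⟩ fun j _ => ?_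
      · rintro _ _ ⟨β, hβ, rfl⟩ ⟨γ, hγ, rfl⟩
        exact ⟨β + γ, S.add_mem hβ hγ, (add_smul _ _ _).symm⟩
      · obtain ⟨β, hβ, hjβ⟩ := hj j
        refine ⟨_, S.mul_mem (hconst (c j)) hβ, ?_⟩
        rw [AModX.res_smul, hjβ, mul_smul]
    have hall : ∀ m (T : Γ(P L m, ⊤)), ∃ β ∈ S, AModX.res (P L m) (le_top : U i ≤ ⊤) T = β • E e m := by
      intro m
      induction m with
      | zero => exact h1
      | succ m ih =>
        intro T
        obtain ⟨a, rfl⟩ := hm m T
        choose α hα ha using fun j => ih (a j)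
        choose β hβ ht using hj
        refine ⟨∑ j, α j * β j, S.sum_mem fun j _ => S.mul_mem (hα j) (hβ j), ?_⟩
        show AModX.res (CohB1.tensorMod (P L m) L) _ _ = _
        rw [map_sum, Finset.sum_smul]
        refine Finset.sum_congr rfl fun j _ => ?_
        rw [InvX.res_tmul, ha, ht, InvX.tmul_smul_left, InvX.tmul_smul_right, ← mul_smul]
        rfl
    have hsurj : Function.Surjective (i'.appLE (D' i) (U i) (hpre' i).ge) := fun b => by
      show b ∈ S
      obtain ⟨m, T, hT⟩ := AmpleVan.exists_extend (ProjUPX.isQCoh_of_isInvertible hL) hL (ofSect (s i))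
        (show Γ(L, U i) from b • e)
      rw [one_ofSect] at hT
      obtain ⟨β, hβ, hTβ⟩ := hall m T
      have h2 : b • E e m = β • E e m := ((pw_app (s i) (U i) b m).symm.trans hT.symm).trans hTβ
      rw [(isFrame_E he m).coord_unique le_rfl (r := b) (r' := β) (by rw [AModX.res_self]; exact h2)]
      exact hβ
    intro z
    rw [morphismRestrict_appTop]
    obtain ⟨y, hy⟩ := hsurj (X.presheaf.map (eqToHom (hpre' i).symm).op
      ((i' ⁻¹ᵁ D' i).topIso.hom z))
    refine ⟨(D' i).topIso.inv y, (ConcreteCategory.bijective_of_isIso (i' ⁻¹ᵁ D' i).topIso.hom).1 ?_⟩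
    apply (ConcreteCategory.bijective_of_isIso (X.presheaf.map (eqToHom (hpre' i).symm).op)).1
    rw [← hy]
    simp only [← CommRingCat.comp_apply]
    congr 2
    simp only [Scheme.Hom.appLE, Scheme.Opens.topIso, Category.assoc]
    simp [← Functor.map_comp]
    rw [i'.naturality_assoc, ← Functor.map_comp]
    rfl
  haveI := hI
  exact ⟨n, i', inferInstance, hsnd, ⟨τ.symm ≪≫ (Scheme.Modules.pullbackCongr hfst.symm).app _ ≪≫
    ((Scheme.Modules.pullbackComp i' π).app _).symm⟩⟩

include hfib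

/-- An ample module is very ample when the fibres have dimension at most one and `H¹(O) = 0`. -/
theorem isRelVeryAmplePn_of_ample (h1 : Subsingleton (Coh.HH X (Coh.structureModule X) 1)) {L : X.Modules}
    (hamp : CohB1.IsAmple L) : RelAmple.IsRelVeryAmplePn (X ↘ Spec (CommRingCat.of A)) L := by
  haveI := isNoetherian_X (A := A) (X := X)
  have hL := hamp.1
  have hc : ∀ m : Ideal A, m.IsMaximal → CurveReg.Cover ((Scheme.Modules.pullback (inc X m)).obj L) := by
    intro m hm
    haveI := hm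
    haveI := isNoetherian_fib (A := A) (X := X) m
    letI : Field (A ⧸ m) := Ideal.Quotient.field m
    letI : (fib A X m).Over (Spec (CommRingCat.of (A ⧸ m))) := ⟨pullback.snd _ _⟩
    haveI : IsProper (fib A X m ↘ Spec (CommRingCat.of (A ⧸ m))) := fib_proper (A := A) (X := X) m
    exact CurveReg.cover_of_ample (A ⧸ m) (dim_fib_le hfib m) (subsingleton_h1_fib hfib h1 m)
      (AmpleVan.isAmple_pullback_of_isEmbedding (inc X m) (inc X m).isClosedEmbedding.isEmbedding hamp)
  have hcover : CurveReg.Cover L := CurveReg.exists_locus_of_gg hL (isGloballyGenerated hfib h1 hL hc)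
  obtain ⟨m, t, ht⟩ := hcover.exists_fin
  have hLc := CurveDeg.isCoh_of_isInvertible hL
  obtain ⟨N, σ, hσ⟩ := exists_finspan (A := A) hLc
  let s : Fin (m + N + 1) → Γ(L, ⊤) := Fin.snoc (Fin.append t σ) 0
  have hs : ∀ x : X, ∃ i, x ∈ TrivBasic.locus (s i) := fun x => by
    obtain ⟨i, hi⟩ := ht x
    exact ⟨(Fin.castAdd N i).castSucc, by simpa [s] using hi⟩
  have hspan : ∀ z : Γ(L, ⊤), ∃ c : Fin (m + N + 1) → A,
      z = ∑ j, (X ↘ Spec (CommRingCat.of A)).appTop ((Scheme.ΓSpecIso (CommRingCat.of A)).inv (c j)) • s j := fun z => by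
    obtain ⟨c, rfl⟩ := hσ z
    refine ⟨Fin.snoc (Fin.append 0 c) 0, ?_⟩
    rw [Fin.sum_univ_castSucc]
    simp only [s, Fin.snoc_castSucc, Fin.snoc_last]
    rw [Fin.sum_univ_add]
    simp
  refine isRelVeryAmplePn_of_mulSpan hamp s hs hspan ?_
  have key : ∀ m', ∃ G : X.Modules, PicF.IsInvertible G ∧ Subsingleton (Coh.HH X G 1) ∧
      Nonempty (P L m' ≅ CohB1.tensorMod G L) := by
    intro m'
    induction m' with
    | zero =>
      exact ⟨Coh.structureModule X, InvX.isInvertible_structureModule, h1,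
        ⟨((CurveTensor.commIso (Coh.structureModule X) L ≪≫ AmpleVan.twUnit.app L)).symm⟩⟩
    | succ m' ih =>
      obtain ⟨G, hG, hG1, ⟨e⟩⟩ := ih
      exact ⟨P L m', isInvertible_P hL m',
        QCoh.subsingleton_HH_of_iso e.symm 1 (subsingleton_h1_tensor hfib hL s hs hG hG1), ⟨Iso.refl _⟩⟩
  intro m' u
  obtain ⟨G, hG, hG1, ⟨e⟩⟩ := key m'
  exact exists_sum_iso hfib hL s hs hG hG1 e u

end Groth.Agent.FibDimOne
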